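import Mathlib
import Cfsg.Agent.Base
import Cfsg.Agent.Lib.NGrp.A2Short
import Cfsg.Agent.Lib.LocEven.ChermakDelgado2

/-!
Step A2: the tall case, `V ≰ O₂(C(w))`.  The module `V` has order 16.
-/

set_option autoImplicit false
set_option linter.unusedSectionVars false
set_option linter.unusedVariables false

namespace H25.A2

open Subgroup H69 H70 H22 Cfsg
open scoped commutatorElement Pointwise

variable {G : Type*} [Group G]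

/-- the elements centralizing `a` modulo `N`. -/
def rc (a : G) (N : Subgroup G) : Subgroup G where
  carrier := {y | y ∈ 𝐍(N) ∧ ⁅y, a⁆ ∈ N}
  one_mem' := ⟨one_mem _, by rw [commutatorElement_one_left]; exact one_mem N⟩
  mul_mem' := fun {y z} hy hz => ⟨mul_mem hy.1 hz.1, by
    have := mul_mem (conj_mem_of_mem_normalizer hy.1 hz.2) hy.2
    rwa [show y * ⁅z, a⁆ * y⁻¹ * ⁅y, a⁆ = ⁅y * z, a⁆ by simp only [commutatorElement_def]; group] at this⟩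
  inv_mem' := fun {y} hy => ⟨inv_mem hy.1, by
    have := conj_mem_of_mem_normalizer' hy.1 (inv_mem hy.2)
    rwa [show y⁻¹ * ⁅y, a⁆⁻¹ * y = ⁅y⁻¹, a⁆ by simp only [commutatorElement_def]; group] at this⟩

theorem mem_rc {a y : G} {N : Subgroup G} : y ∈ rc a N ↔ y ∈ 𝐍(N) ∧ ⁅y, a⁆ ∈ N := Iff.rfl

theorem mem_rc_of_cz {a y : G} {N : Subgroup G} (h1 : y ∈ 𝐍(N)) (h2 : y ∈ 𝐂(zpowers a)) : y ∈ rc a N :=
  ⟨h1, comm_eq_one_iff.2 h2 ▸ one_mem N⟩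

theorem comm_symm {a y : G} {N : Subgroup G} (h : ⁅y, a⁆ ∈ N) : ⁅a, y⁆ ∈ N := by
  rw [← commutatorElement_inv]; exact inv_mem h

theorem norm_comm_zp' [Finite G] {V : Subgroup G} {s d : G} (hs : s ∈ 𝐍(V)) (hd : d ∈ 𝐍(V))
    (h : d * s * d⁻¹ ∈ zpowers s ⊔ 𝐂(V)) : d ∈ 𝐍(⁅V, zpowers s⁆) := by
  refine mem_normalizer_of_cj_le ?_
  rw [cj_commutator, cj_zpowers, cj_eq_of_mem_normalizer hd]
  exact comm_zp_mono hs h

theorem norm_cent_zp [Finite G] {V : Subgroup G} {s d : G} (hd : d ∈ 𝐍(V))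
    (h : d * s * d⁻¹ ∈ zpowers s ⊔ 𝐂(V)) : d ∈ 𝐍(V ⊓ 𝐂(zpowers s)) := by
  refine inv_mem_iff.1 (mem_normalizer_of_cj_le (cj_le_iff.2 ?_))
  rw [inv_inv, cj_inf, cj_centralizer, cj_zpowers, cj_eq_of_mem_normalizer hd]
  exact le_inf inf_le_left (le_cz_iff.2 ((sup_le (le_centralizer_comm.1 inf_le_right)
    (centralizer_anti inf_le_left) : _ ≤ 𝐂(V ⊓ 𝐂(zpowers s))) h))

theorem two_mul_le_card [Finite G] {A B : Subgroup G} (h : A ≤ B) (h' : ¬ B ≤ A) : 2 * Nat.card A ≤ Nat.card B := by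
  obtain ⟨k, hk⟩ := card_dvd_of_le h
  have h1 := H1.card_lt_of_lt (lt_of_le_not_ge h h')
  have h2 : 0 < Nat.card A := Nat.card_pos
  rw [hk] at h1 ⊢
  rcases k with _ | _ | k
  · omega
  · omega
  · nlinarith

/-- the tall configuration. -/
structure TL (S V X V₀ : Subgroup G) (w v x : G) : Prop extends CN S V X where
  hw : w ∈ V
  w1 : w ≠ 1
  le : V₀ ≤ V
  le2 : Le2 V₀ V
  inf : V ⊓ 𝐎(𝐂(zpowers w)) ≤ V₀
  hv : v ∈ V
  v0 : v ∉ V₀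
  hx : x ∈ 𝐂(zpowers w)
  ox : Odd (orderOf x)
  xQ : x ∉ 𝐎(𝐂(zpowers w))
  cx : ∀ u ∈ V₀, ⁅u, x⁆ ∈ 𝐎(𝐂(zpowers w))
  inv : v * x * v⁻¹ = x⁻¹

/-- the data of the hyperplane lemma. -/
structure HD (V X A A₁ : Subgroup G) (a d : G) : Prop where
  le : A₁ ≤ A
  inf : A ⊓ 𝐂(V) ≤ A₁
  ha : a ∈ A
  a1 : a ∉ A₁
  le2 : Le2 A₁ A
  hd : d ∈ X
  od : Odd (orderOf d)
  dC : d ∉ 𝐂(V)
  cd : ∀ b ∈ A₁, ⁅b, d⁆ ∈ 𝐂(V)
  inv : a * d * a⁻¹ * d ∈ 𝐂(V)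

theorem HD.change {V X A A₁ : Subgroup G} {a d b : G} (h : HD V X A A₁ a d) (hA : A ≤ 𝐍(V)) (hb : b ∈ A)
    (hb1 : b ∉ A₁) : HD V X A A₁ b d := by
  refine ⟨h.le, h.inf, hb, hb1, h.le2, h.hd, h.od, h.dC, h.cd, ?_⟩
  have := mul_mem (conj_mem_of_mem_normalizer (H69.normalizer_le_normalizer_centralizer V (hA h.ha))
    (h.cd _ (h.le2.inv_mul h.ha hb h.a1 hb1))) h.inv
  rwa [show a * ⁅a⁻¹ * b, d⁆ * a⁻¹ * (a * d * a⁻¹ * d) = b * d * b⁻¹ * d by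
    simp only [commutatorElement_def]; group] at this

theorem HD.conj_mem {V X A A₁ : Subgroup G} {a d b : G} (h : HD V X A A₁ a d) (hA : A ≤ 𝐍(V)) (hb : b ∈ A) :
    b * d * b⁻¹ ∈ zpowers d ⊔ 𝐂(V) := by
  by_cases hb1 : b ∈ A₁
  · exact conj_mem_sup (comm_symm (h.cd b hb1))
  · have := mul_mem (mem_sup_right (S := zpowers d) (h.change hA hb hb1).inv) (mem_sup_left (inv_mem (mem_zpowers d)))
    rwa [mul_inv_cancel_right] at this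

namespace TL

variable [Finite G] {S V X V₀ : Subgroup G} {w v x : G}

local notation "Q" => 𝐎(𝐂(zpowers w))
local notation "A" => V₀ ^ᶜ x
local notation "W" => V₀ ⊔ V₀ ^ᶜ x
local notation "C₀" => V₀ ⊓ V₀ ^ᶜ x

theorem nQ (h : TL S V X V₀ w v x) : 𝐂(zpowers w) ≤ 𝐍(Q) := le_normalizer_pCoreOf 2 _

theorem V_le_H (h : TL S V X V₀ w v x) : V ≤ 𝐂(zpowers w) := h.VC.trans (h.C_le_cz h.hw)

theorem V0C (h : TL S V X V₀ w v x) : V ≤ 𝐂(V₀) := h.VC.trans (centralizer_anti h.le)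

theorem Qs_le (h : TL S V X V₀ w v x) : V₀ ⊔ Q ≤ 𝐍(V) := sup_le (h.le.trans le_normalizer) (h.O_le_M h.hw)

theorem isP_Qs (h : TL S V X V₀ w v x) : IsPGroup 2 (V₀ ⊔ Q : Subgroup G) :=
  isPGroup_sup_of_le_normalizer_right (h.isP.to_le h.le) (isPGroup_pCoreOf 2 _) ((h.le.trans h.V_le_H).trans h.nQ)

theorem norm_Qs (h : TL S V X V₀ w v x) {y : G} (hy : y ∈ 𝐂(zpowers w)) (hc : ∀ u ∈ V₀, ⁅u, y⁆ ∈ Q) :
    y ∈ 𝐍(V₀ ⊔ Q) := by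
  refine mem_normalizer_of_cj_le ?_
  rw [cj_sup, cj_eq_of_mem_normalizer (h.nQ hy)]
  refine sup_le (fun z hz => ?_) le_sup_right
  obtain ⟨u, hu, rfl⟩ := mem_cj'.1 hz
  exact sup_le_sup_right (zpowers_le_of_mem hu) _ (conj_mem_sup (hc u hu))

theorem x_Qs (h : TL S V X V₀ w v x) : x ∈ 𝐍(V₀ ⊔ Q) := h.norm_Qs h.hx h.cx

theorem inf_Qs (h : TL S V X V₀ w v x) : V ⊓ (V₀ ⊔ Q) = V₀ := by
  rw [inf_comm, dedekind_right ((h.le.trans h.V_le_H).trans h.nQ) h.le, sup_eq_left, inf_comm]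
  exact h.inf

theorem Qs_V0 (h : TL S V X V₀ w v x) : V₀ ⊔ Q ≤ 𝐍(V₀) := by
  have := H69.le_normalizer_inf h.Qs_le le_normalizer
  rwa [h.inf_Qs] at this

theorem V_Qs (h : TL S V X V₀ w v x) : V ≤ 𝐍(V₀ ⊔ Q) :=
  H69.le_normalizer_sup (h.V0C.trans (centralizer_le_normalizer _)) (h.V_le_H.trans h.nQ)

theorem comm_Qs (h : TL S V X V₀ w v x) {y u : G} (hy : y ∈ V₀ ⊔ Q) (hu : u ∈ V) : ⁅u, y⁆ ∈ V₀ :=
  h.inf_Qs.le ⟨comm_mem_left (h.Qs_le hy) hu, comm_mem_right (h.V_Qs hu) hy⟩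

theorem A_le (h : TL S V X V₀ w v x) : A ≤ V₀ ⊔ Q := cj_le_of_mem_normalizer le_sup_left h.x_Qs

theorem A_le_M (h : TL S V X V₀ w v x) : A ≤ 𝐍(V) := h.A_le.trans h.Qs_le

theorem W_le (h : TL S V X V₀ w v x) : W ≤ V₀ ⊔ Q := sup_le le_sup_left h.A_le

theorem Qs_A (h : TL S V X V₀ w v x) : V₀ ⊔ Q ≤ 𝐍(A) := by
  have := cj_mono x h.Qs_V0
  rwa [cj_normalizer, cj_eq_of_mem_normalizer h.x_Qs] at this

theorem Qs_W (h : TL S V X V₀ w v x) : V₀ ⊔ Q ≤ 𝐍(W) := H69.le_normalizer_sup h.Qs_V0 h.Qs_A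

theorem A_ea (h : TL S V X V₀ w v x) : IsElementaryAbelian 2 (A) := ea_cj (ea_le h.ea h.le) x

theorem VxA (h : TL S V X V₀ w v x) : V ^ᶜ x ≤ 𝐂(A) := cj_centralizer V₀ x ▸ cj_mono x h.V0C

theorem comm_Qs' (h : TL S V X V₀ w v x) {y u : G} (hy : y ∈ V₀ ⊔ Q) (hu : u ∈ V ^ᶜ x) : ⁅u, y⁆ ∈ A := by
  obtain ⟨u, hu', rfl⟩ := mem_cj'.1 hu
  have := cj_mem x (h.comm_Qs (conj_mem_of_mem_normalizer' h.x_Qs hy) hu')
  rwa [show x * ⁅u, x⁻¹ * y * x⁆ * x⁻¹ = ⁅x * u * x⁻¹, y⁆ by simp only [commutatorElement_def]; group] at this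

theorem mem_of_vv (h : TL S V X V₀ w v x) {N : Subgroup G} (h1 : V ≤ N) (h2 : V ^ᶜ x ≤ N) : x ∈ N :=
  mem_of_inverts h.ox (by rw [h.inv, inv_mul_cancel]; exact one_mem N) (h1 h.hv) (h2 (cj_mem x h.hv))

theorem V_W (h : TL S V X V₀ w v x) : V ≤ 𝐍(W) := le_normalizer_of_commutator_le_right
  (commutator_le.2 fun u hu y hy => mem_sup_left (h.comm_Qs (h.W_le hy) hu))

theorem Vx_W (h : TL S V X V₀ w v x) : V ^ᶜ x ≤ 𝐍(W) := le_normalizer_of_commutator_le_right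
  (commutator_le.2 fun u hu y hy => mem_sup_right (h.comm_Qs' (h.W_le hy) hu))

theorem x_W (h : TL S V X V₀ w v x) : x ∈ 𝐍(W) := h.mem_of_vv h.V_W h.Vx_W

theorem comm_x (h : TL S V X V₀ w v x) {y : G} (hy : y ∈ V₀ ⊔ Q) : ⁅x, y⁆ ∈ W :=
  (h.mem_of_vv (N := rc y W) (fun u hu => ⟨h.V_W hu, mem_sup_left (h.comm_Qs hy hu)⟩)
    fun u hu => ⟨h.Vx_W hu, mem_sup_right (h.comm_Qs' hy hu)⟩).2

theorem mem_V0 (h : TL S V X V₀ w v x) {u : G} (hu : u ∈ V) (hc : ⁅u, x⁆ ∈ Q) : u ∈ V₀ := by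
  by_contra e
  have := (h.le2.le_of_mem (N := rc x Q) (fun y hy => ⟨h.nQ (h.V_le_H hy.2), h.cx y hy.1⟩) hu e
    ⟨h.nQ (h.V_le_H hu), hc⟩ h.hv).2
  rw [commutatorElement_def, h.inv, ← mul_inv_rev, inv_mem_iff, ← pow_two] at this
  exact h.xQ (mem_of_sq_mem h.ox this)

theorem mem_C0 (h : TL S V X V₀ w v x) {u : G} (hu : u ∈ V) (hc : x ∈ 𝐂(zpowers u)) : u ∈ C₀ := by
  have := h.mem_V0 hu (comm_eq_one_iff.2 (mem_cz_comm.1 hc) ▸ one_mem _)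
  exact ⟨this, mem_cj_of_cz this hc⟩

theorem w_mem (h : TL S V X V₀ w v x) : w ∈ C₀ := h.mem_C0 h.hw h.hx

theorem inf_le (h : TL S V X V₀ w v x) : V ⊓ V ^ᶜ x ≤ C₀ := fun u hu =>
  h.mem_C0 hu.1 (h.mem_of_vv (le_cz_iff.2 (h.VC hu.1)) (le_cz_iff.2 (ea_le_cent (ea_cj h.ea x) hu.2)))

theorem C0_le (h : TL S V X V₀ w v x) : C₀ ≤ V ⊓ V ^ᶜ x := inf_le_inf h.le (cj_mono x h.le)

theorem V_C0 (h : TL S V X V₀ w v x) : V ≤ 𝐂(C₀) := h.V0C.trans (centralizer_anti inf_le_left)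

theorem Vx_C0 (h : TL S V X V₀ w v x) : V ^ᶜ x ≤ 𝐂(C₀) := h.VxA.trans (centralizer_anti inf_le_right)

theorem A_C0 (h : TL S V X V₀ w v x) : A ≤ 𝐂(C₀) := (cj_mono x h.le).trans h.Vx_C0

theorem x_C0 (h : TL S V X V₀ w v x) : x ∈ 𝐂(C₀) := h.mem_of_vv h.V_C0 h.Vx_C0

theorem W_C0 (h : TL S V X V₀ w v x) : W ≤ 𝐂(C₀) := sup_le (h.le.trans h.V_C0) h.A_C0

theorem ne (h : TL S V X V₀ w v x) : V ^ᶜ x ≠ V := fun e => h.v0 (h.inf_le ⟨h.hv, e.ge h.hv⟩).1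

theorem comm_VA (h : TL S V X V₀ w v x) {u a : G} (hu : u ∈ V₀) (ha : a ∈ A) : ⁅u, a⁆ ∈ C₀ :=
  ⟨h.comm_Qs (h.A_le ha) (h.le hu), comm_mem_right (h.Qs_A (mem_sup_left hu)) ha⟩

theorem comm_WW (h : TL S V X V₀ w v x) {y a : G} (hy : y ∈ W) (ha : a ∈ A) : ⁅y, a⁆ ∈ C₀ :=
  ((sup_le (fun u hu => ⟨centralizer_le_normalizer _ (h.V_C0 (h.le hu)), h.comm_VA hu ha⟩)
    (fun b hb => mem_rc_of_cz (centralizer_le_normalizer _ (h.A_C0 hb))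
      (mem_cz_of_mem (ea_le_cent h.A_ea hb) ha)) : W ≤ rc a (C₀)) hy).2

theorem mem_of_comm_x (h : TL S V X V₀ w v x) {a : G} (ha : a ∈ A) (hc : x ∈ rc a (C₀)) : a ∈ C₀ := by
  have h1 := mul_mem (inv_mem hc).2.2 ha
  rw [show ⁅x⁻¹, a⁆ * a = x⁻¹ * a * x by rw [commutatorElement_def]; group] at h1
  have h2 : x⁻¹ * a * x ∈ C₀ := ⟨mem_cj.1 ha, h1⟩
  have h3 := conj_eq_of_mem_centralizer h.x_C0 h2
  rwa [← h3, show x * (x⁻¹ * a * x) * x⁻¹ = a by group] at h2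

theorem inj (h : TL S V X V₀ w v x) {u a : G} (hu : u ∈ V) (hu0 : u ∉ V₀) (ha : a ∈ A) (hc : ⁅u, a⁆ ∈ C₀) :
    a ∈ C₀ :=
  h.mem_of_comm_x ha (h.mem_of_vv (h.le2.le_of_mem
    (fun y hy => ⟨centralizer_le_normalizer _ (h.V_C0 hy.2), h.comm_VA hy.1 ha⟩) hu hu0
      ⟨centralizer_le_normalizer _ (h.V_C0 hu), hc⟩)
    fun y hy => mem_rc_of_cz (centralizer_le_normalizer _ (h.Vx_C0 hy)) (mem_cz_of_mem (h.VxA hy) ha))

theorem cent_le (h : TL S V X V₀ w v x) {a : G} (ha : a ∈ A) (ha0 : a ∉ C₀) : V ⊓ 𝐂(zpowers a) ≤ V₀ :=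
  fun u hu => by
    by_contra e
    exact ha0 (h.inj hu.1 e ha (comm_eq_one_iff.2 hu.2 ▸ one_mem _))

theorem not_mem_C (h : TL S V X V₀ w v x) {a : G} (ha : a ∈ A) (ha0 : a ∉ C₀) : a ∉ 𝐂(V) := fun e =>
  h.v0 (h.cent_le ha ha0 ⟨h.hv, mem_cz_comm.1 (mem_cz_of_mem e h.hv)⟩)

theorem not_A_le (h : TL S V X V₀ w v x) : ¬ A ≤ C₀ := fun e => by
  have h1 : V₀ ≤ A := (eq_of_le_of_card_ge (e.trans inf_le_left) (card_cj V₀ x).ge).ge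
  have h2 : W ≤ C₀ := sup_le (le_inf le_rfl h1) e
  refine h.xQ (h.chrw h.hw h.w1 ⟨h.hx, H2.le_centralizer_of_commutator_le (N := W)
    (copz h.ox (h.isP_Qs.to_le h.W_le)) (comm_zp_le h.x_W fun z hz => comm_symm (h.comm_x (mem_sup_right hz)))
      (zpowers_le_of_mem (centralizer_anti h2 h.x_C0)) (mem_zpowers x)⟩)

theorem surj (h : TL S V X V₀ w v x) {u : G} (hu : u ∈ V) (hu0 : u ∉ V₀) {N : Subgroup G} (h1 : C₀ ≤ N)
    (h2 : ∀ a ∈ A, ⁅u, a⁆ ∈ N) : V₀ ≤ N := by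
  have h3 : (C₀).relIndex (A) ≤ (C₀).relIndex (N ⊓ V₀) := by
    refine CD.relIndex_le_of_map (fun a => ⟨⁅u, (a : G)⁆, h2 a a.2, h.comm_Qs (h.A_le a.2) hu⟩) fun a b hab => ?_
    refine h.inj hu hu0 (mul_mem (inv_mem a.2) b.2) ?_
    have := conj_mem_of_mem_normalizer' (centralizer_le_normalizer _ (h.A_C0 a.2)) hab
    rwa [show (a : G)⁻¹ * (⁅u, (a : G)⁆⁻¹ * ⁅u, (b : G)⁆) * a = ⁅u, (a : G)⁻¹ * b⁆ by
      simp only [commutatorElement_def]; group] at this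
  refine (eq_of_le_of_card_ge (inf_le_right : N ⊓ V₀ ≤ V₀) ?_).ge.trans inf_le_left
  rw [← card_cj V₀ x, ← H3.relIndex_mul_card (inf_le_right : C₀ ≤ A),
    ← H3.relIndex_mul_card (le_inf h1 inf_le_left : C₀ ≤ N ⊓ V₀)]
  exact Nat.mul_le_mul_right _ h3

theorem le2_comm (h : TL S V X V₀ w v x) {a : G} (ha : a ∈ A) : Le2 (C₀) ⁅V, zpowers a⁆ := by
  have h1 : ⁅v, a⁆ ∈ V := comm_mem_left (h.A_le_M ha) h.hv
  have h2 : C₀ ⊔ zpowers ⁅v, a⁆ ≤ V := sup_le (inf_le_left.trans h.le) (zpowers_le_of_mem h1)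
  have h3 : V ≤ 𝐍(C₀ ⊔ zpowers ⁅v, a⁆) := (h.VC.trans (centralizer_anti h2)).trans (centralizer_le_normalizer _)
  refine (le2_sup_zp (centralizer_le_normalizer _ (h.V_C0 h1)) (h.sq h1 ▸ one_mem _)).mono_right
    (comm_zp_le (centralizer_le_normalizer _ ?_) fun u hu => (h.le2.le_of_mem (N := rc a _)
      (fun y hy => ⟨h3 hy.2, mem_sup_left (h.comm_VA hy.1 ha)⟩) h.hv h.v0
        ⟨h3 h.hv, mem_sup_right (mem_zpowers _)⟩ hu).2)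
  rw [H69.centralizer_sup]
  exact ⟨h.A_C0 ha, mem_cz_comm.1 (comm_le_cent h.ea (h.A_le_M ha) (H22.ea_mul_self h.A_ea ha ▸ one_mem _)
    (commutator_mem_commutator h.hv (mem_zpowers a))).2⟩

theorem exists_hd (h : TL S V X V₀ w v x) {a : G} (ha : a ∈ A) (ha0 : a ∉ C₀) : ∃ A₁ d, HD V X (A) A₁ a d := by
  obtain ⟨A₁, h1, h2, h3, h4, d, h5, h6, h7, h8, h9⟩ := h.fa.exists_hl h.A_ea h.A_le_M ha (h.not_mem_C ha ha0)
  exact ⟨A₁, d, h1, h2, ha, h3, h4, h5, h6, h7, h8, h9⟩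

section hd

variable {A₁ : Subgroup G} {a d : G}

local notation "N" => ⁅V, zpowers d⁆
local notation "N₀" => V ⊓ 𝐂(zpowers d)

theorem C0_le_A1 (h : TL S V X V₀ w v x) (k : HD V X (A) A₁ a d) : C₀ ≤ A₁ :=
  (le_inf inf_le_right (le_centralizer_comm.1 h.V_C0)).trans k.inf

theorem a0 (h : TL S V X V₀ w v x) (k : HD V X (A) A₁ a d) : a ∉ C₀ := fun e => k.a1 (h.C0_le_A1 k e)

theorem dM (h : TL S V X V₀ w v x) (k : HD V X (A) A₁ a d) : d ∈ 𝐍(V) := h.fa.XL k.hd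

theorem N_le (h : TL S V X V₀ w v x) (k : HD V X (A) A₁ a d) : N ≤ V :=
  commutator_le_left_of_le_normalizer (zpowers_le_of_mem (h.dM k))

theorem A_N (h : TL S V X V₀ w v x) (k : HD V X (A) A₁ a d) : A ≤ 𝐍(N) := fun b hb =>
  norm_comm_zp' (h.dM k) (h.A_le_M hb) (k.conj_mem h.A_le_M hb)

theorem A_N0 (h : TL S V X V₀ w v x) (k : HD V X (A) A₁ a d) : A ≤ 𝐍(N₀) := fun b hb =>
  norm_cent_zp (h.A_le_M hb) (k.conj_mem h.A_le_M hb)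

theorem N_inf (h : TL S V X V₀ w v x) (k : HD V X (A) A₁ a d) : N ⊓ 𝐂(zpowers d) = ⊥ :=
  h.fa.comm_inf (zpowers_le_of_mem k.hd)

theorem le_sup_N (h : TL S V X V₀ w v x) (k : HD V X (A) A₁ a d) : V ≤ N₀ ⊔ N :=
  h.fa.le_comm_sup (zpowers_le_of_mem k.hd)

theorem C0_inf (h : TL S V X V₀ w v x) (k : HD V X (A) A₁ a d) : C₀ ⊓ N₀ = ⊥ := by
  rw [eq_bot_iff]
  intro u hu
  by_contra e
  have h1 := h.C0_le hu.1
  exact k.dC (h.not_inverts h1.1 e (h.A_le_M k.ha) (centralizer_anti ((le_inf (h.Y_le h1.1 e)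
    (h.Y_le_cj h1.2 e)).trans h.inf_le) (h.A_C0 k.ha)) k.hd (mem_cz_comm.1 hu.2.2) k.inv)

theorem not_N_le (h : TL S V X V₀ w v x) (k : HD V X (A) A₁ a d) : ¬ N ≤ V₀ := fun e => by
  obtain ⟨n, hn, hn0⟩ := exists_not_mem_of_not_le fun e' : N₀ ≤ V₀ => h.v0 (sup_le e' e (h.le_sup_N k h.hv))
  have h1 : V₀ ≤ N₀ ⊔ C₀ := h.surj hn.1 hn0 le_sup_right fun b hb => mem_sup_left (comm_mem_left (h.A_N0 k hb) hn)
  have h2 : V ≤ 𝐍(N₀) := (h.VC.trans (centralizer_anti inf_le_left)).trans (centralizer_le_normalizer _)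
  have h3 : a ∈ 𝐂(N) := le_cz_iff.1 fun y hy => comm_eq_one_iff.1 (mem_bot.1 ((h.N_inf k).le
    ⟨comm_mem_left (h.A_N k k.ha) hy, ((sup_le (fun z hz => ⟨h2 hz.1, comm_mem_left (h.A_N0 k k.ha) hz⟩)
      (fun z hz => mem_rc_of_cz (h2 (h.le hz.1)) (mem_cz_comm.1 (mem_cz_of_mem (h.A_C0 k.ha) hz))) :
        N₀ ⊔ C₀ ≤ rc a (N₀)) (h1 (e hy))).2.2⟩))
  have h4 : d ∈ 𝐂(N) := mem_of_inverts k.od (centralizer_anti (h.N_le k) k.inv) h3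
    (conj_mem_of_mem_normalizer (H69.normalizer_le_normalizer_centralizer _
      (normalizer_commutator_ge_right _ _ (mem_zpowers d))) h3)
  exact k.dC (H24.le_centralizer_of_commutator_eq_bot' (eq_bot_iff.2 ((le_inf le_rfl (le_cz_iff.2 h4)).trans
    (h.N_inf k).le)) (mem_zpowers d))

theorem le_sup_C0 (h : TL S V X V₀ w v x) (k : HD V X (A) A₁ a d) : V ≤ N ⊔ C₀ := by
  obtain ⟨n, hn, hn0⟩ := exists_not_mem_of_not_le (h.not_N_le k)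
  exact h.le2.le_of_mem (inf_le_left.trans (h.surj (h.N_le k hn) hn0 le_sup_right
    fun b hb => mem_sup_left (comm_mem_left (h.A_N k hb) hn))) (h.N_le k hn) hn0 (mem_sup_left hn)

theorem comm_eq (h : TL S V X V₀ w v x) (k : HD V X (A) A₁ a d) {b : G} (hb : b ∈ A) :
    ⁅V, zpowers b⁆ = ⁅N, zpowers b⁆ :=
  le_antisymm ((commutator_mono (h.le_sup_C0 k) le_rfl).trans (H2.commutator_sup_eq_of_le_centralizer
    (((inf_le_left.trans h.le).trans (h.VC.trans (centralizer_anti (h.N_le k)))).trans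
      (centralizer_le_normalizer _)) (le_cz_iff.2 (h.A_C0 hb))).le) (commutator_mono (h.N_le k) le_rfl)

theorem comm_le_N (h : TL S V X V₀ w v x) (k : HD V X (A) A₁ a d) {b : G} (hb : b ∈ A) : ⁅V, zpowers b⁆ ≤ N :=
  (h.comm_eq k hb).le.trans (commutator_le_left_of_le_normalizer (zpowers_le_of_mem (h.A_N k hb)))

theorem A_cent (h : TL S V X V₀ w v x) (k : HD V X (A) A₁ a d) : A ≤ 𝐂(N₀) := fun b hb =>
  le_cz_iff.1 fun y hy => comm_eq_one_iff.1 (mem_bot.1 ((h.N_inf k).le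
    ⟨h.comm_le_N k hb (commutator_mem_commutator hy.1 (mem_zpowers b)), (comm_mem_left (h.A_N0 k hb) hy).2⟩))

theorem free' (h : TL S V X V₀ w v x) (k : HD V X (A) A₁ a d) {Y : Subgroup G} (hY : Y ≤ N) (h1 : a ∈ 𝐍(Y))
    (h2 : d ∈ 𝐍(Y)) : Nat.card Y = Nat.card (Y ⊓ 𝐂(zpowers a) : Subgroup G) ^ 2 ∧
      ⁅Y, zpowers a⁆ = Y ⊓ 𝐂(zpowers a) ∧ (Y ⊓ 𝐂(zpowers a)) ⊔ (Y ⊓ 𝐂(zpowers a)) ^ᶜ d = Y :=
  free (ea_le h.ea (hY.trans (h.N_le k))) h1 h2 k.od (H22.ea_mul_self h.A_ea k.ha ▸ one_mem _)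
    (centralizer_anti (hY.trans (h.N_le k)) k.inv) (eq_bot_iff.2 ((inf_le_inf_right _ hY).trans (h.N_inf k).le))

theorem freeN (h : TL S V X V₀ w v x) (k : HD V X (A) A₁ a d) :
    Nat.card (N : Subgroup G) = Nat.card (⁅V, zpowers a⁆ : Subgroup G) ^ 2 ∧ ⁅V, zpowers a⁆ = N ⊓ 𝐂(zpowers a) ∧
      ⁅V, zpowers a⁆ ⊔ ⁅V, zpowers a⁆ ^ᶜ d = N := by
  obtain ⟨h1, h2, h3⟩ := h.free' k le_rfl (h.A_N k k.ha) (normalizer_commutator_ge_right _ _ (mem_zpowers d))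
  rw [← h2, ← h.comm_eq k k.ha] at h1 h3
  exact ⟨h1, (h.comm_eq k k.ha).trans h2, h3⟩

theorem card_V (h : TL S V X V₀ w v x) : Nat.card V = 2 * Nat.card V₀ := by
  rw [h.le2.card_eq fun e => h.v0 (e h.hv), inf_eq_left.2 h.le]

theorem card_mul (h : TL S V X V₀ w v x) (k : HD V X (A) A₁ a d) :
    Nat.card (⁅V, zpowers a⁆ : Subgroup G) * Nat.card (C₀ : Subgroup G) = Nat.card V₀ := by
  obtain ⟨h1, h2, -⟩ := h.freeN k
  have h3 := (h.le2_comm k.ha).card_eq fun e => h.a0 k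
    (h.inj h.hv h.v0 k.ha (e (commutator_mem_commutator h.hv (mem_zpowers a))))
  have h4 : C₀ ⊓ ⁅V, zpowers a⁆ = N ⊓ C₀ := by
    rw [h2, inf_comm, inf_assoc, inf_eq_right.2 (le_cz_iff.2 (h.A_C0 k.ha))]
  have h5 := H24.card_sup_mul_card_inf (((h.N_le k).trans h.V_C0).trans (centralizer_le_normalizer _))
  rw [le_antisymm (sup_le (h.N_le k) (inf_le_left.trans h.le)) (h.le_sup_C0 k), h.card_V, h1] at h5
  rw [h4] at h3
  have h6 : 0 < Nat.card (N ⊓ C₀ : Subgroup G) := Nat.card_pos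
  rw [h3] at h5 ⊢
  nlinarith

theorem card_le_four (h : TL S V X V₀ w v x) (k : HD V X (A) A₁ a d) {b : G} (hb : b ∈ A₁) :
    Nat.card (⁅V, zpowers b⁆ : Subgroup G) ≤ 4 := by
  have hbA := k.le hb
  obtain ⟨h1, -, -⟩ := h.free' k (h.comm_le_N k hbA) (norm_comm_zp (h.A_le_M hbA) (h.A_le_M k.ha)
    (comm_eq_one_iff.2 (mem_cz_of_mem (ea_le_cent h.A_ea hbA) k.ha) ▸ one_mem _))
    (norm_comm_zp (h.A_le_M hbA) (h.dM k) (k.cd b hb))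
  have h2 := ((h.le2_comm hbA).mono_left (le_cz_iff.2 (h.A_C0 k.ha))).card_le
  rw [inf_comm] at h2
  have h3 : 0 < Nat.card (⁅V, zpowers b⁆ ⊓ 𝐂(zpowers a) : Subgroup G) := Nat.card_pos
  nlinarith

theorem not_A1_le (h : TL S V X V₀ w v x) (k : HD V X (A) A₁ a d) : ¬ A₁ ≤ C₀ := fun e => by
  have h1 := (k.le2.mono_left e).card_eq h.not_A_le
  rw [inf_eq_left.2 inf_le_right, card_cj] at h1
  have h2 := h.card_mul k
  have h3 : 0 < Nat.card (C₀ : Subgroup G) := Nat.card_pos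
  have h4 := H24.card_eq_card_centralizer_mul_card_commutator h.ea.1 (h.A_le_M k.ha)
  have h5 : Nat.card (⁅V, zpowers a⁆ : Subgroup G) = 2 := by nlinarith
  have ht : TV V a := tv_of_le2 h.ea (h.A_le_M k.ha) (h.not_mem_C k.ha (h.a0 k))
    (le2_of_card_le (by rw [inf_comm]; nlinarith))
  obtain ⟨s, hs, -, h6⟩ := (h.card_or ht).resolve_left h.n4
  have h7 : Le2 (V ^ᶜ x) V₀ := (le2_of_card_le (by rw [inf_eq_left.2 inf_le_left, h1])).mono_left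
    (h.C0_le.trans inf_le_right)
  exact h.n4 (h.card_of_I' hs (h7.mono_right ((le_inf (h.fa.Nt_le hs.1)
    (le_cz_iff.2 (h6 (mem_sup_right (mem_zpowers a))))).trans (h.cent_le k.ha (h.a0 k)))) h.ne)

theorem card_four (h : TL S V X V₀ w v x) (k : HD V X (A) A₁ a d) :
    Nat.card (⁅V, zpowers a⁆ : Subgroup G) = 4 ∧ Nat.card V₀ = 4 * Nat.card (C₀ : Subgroup G) := by
  obtain ⟨b, hb, hb0⟩ := exists_not_mem_of_not_le (h.not_A1_le k)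
  obtain ⟨A₂, e, k'⟩ := h.exists_hd (k.le hb) hb0
  have h1 := h.card_mul k
  have h2 := h.card_mul k'
  have h3 := h.card_le_four k hb
  have h4 := k.le2.card_eq fun e => k.a1 (e k.ha)
  rw [inf_eq_left.2 k.le, card_cj] at h4
  have h5 := two_mul_le_card (h.C0_le_A1 k) (h.not_A1_le k)
  have h6 : 0 < Nat.card (C₀ : Subgroup G) := Nat.card_pos
  have h7 : Nat.card V₀ = 4 * Nat.card (C₀ : Subgroup G) := by nlinarith
  exact ⟨by nlinarith, h7⟩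

theorem card_two (h : TL S V X V₀ w v x) (k : HD V X (A) A₁ a d) :
    Nat.card (C₀ : Subgroup G) = 2 ∧ N₀ = ⊥ := by
  obtain ⟨b, hb, hb0⟩ := exists_not_mem_of_not_le (h.not_A1_le k)
  obtain ⟨h1, h2, h3⟩ := h.freeN k
  obtain ⟨h4, h5⟩ := h.card_four k
  have h6 := H2.card_eq_card_centralizer_mul_card_commutator h.ea.1 (zpowers_le_of_mem (h.dM k)) (copz k.od h.isP)
  rw [h1, h4, h.card_V, h5] at h6
  have h7 : Nat.card (N ⊓ 𝐂(A) : Subgroup G) ≤ 2 := by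
    rcases card_cases_of_le_four h4 (h2 ▸ inf_le_inf_left _ (centralizer_anti (zpowers_le_of_mem k.ha)) :
      N ⊓ 𝐂(A) ≤ _) with e | e | e
    · rw [e, card_bot]; norm_num
    · exact e.le
    · have h8 : ⁅V, zpowers a⁆ ≤ V ⊓ 𝐂(zpowers b) := e.ge.trans
        (inf_le_inf (h.N_le k) (centralizer_anti (zpowers_le_of_mem (k.le hb))))
      refine absurd (le_cz_iff.1 ((h.le_sup_N k).trans (sup_le (le_cz_iff.2 (h.A_cent k (k.le hb)))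
        ((h3.ge.trans (sup_le h8 (cj_le_of_mem_normalizer h8 (norm_cent_zp (h.dM k)
          (conj_mem_sup (k.cd b hb)))))).trans inf_le_right)))) (h.not_mem_C (k.le hb) hb0)
  have hn : ∀ B ≤ V, B ≤ 𝐍(N₀) := fun B hB =>
    (hB.trans (h.VC.trans (centralizer_anti inf_le_left))).trans (centralizer_le_normalizer _)
  have h8 := H24.card_sup_mul_card_inf (hn (C₀) (inf_le_left.trans h.le))
  have h9 := H24.card_sup_mul_card_inf (hn (N ⊓ 𝐂(A)) (inf_le_left.trans (h.N_le k)))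
  have h10 : Nat.card (C₀ ⊔ N₀ : Subgroup G) ≤ Nat.card (N ⊓ 𝐂(A) ⊔ N₀ : Subgroup G) := by
    refine card_le_of_le (sup_le ?_ le_sup_right)
    rw [sup_comm, ← dedekind_left (hn _ (h.N_le k)) (le_centralizer_comm.1 (h.A_cent k))]
    exact le_inf ((inf_le_left.trans h.le).trans (h.le_sup_N k)) (le_centralizer_comm.1 h.A_C0)
  rw [h.C0_inf k, card_bot] at h8
  have h11 : 0 < Nat.card (N₀ : Subgroup G) := Nat.card_pos
  have h12 : 0 < Nat.card (N ⊓ 𝐂(A) ⊓ N₀ : Subgroup G) := Nat.card_pos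
  have h13 : Nat.card (C₀ : Subgroup G) ≤ 2 := by nlinarith
  exact ⟨by omega, card_eq_one.1 (by omega)⟩

end hd

theorem exists_hd' (h : TL S V X V₀ w v x) : ∃ A₁ a d, HD V X (A) A₁ a d := by
  obtain ⟨a, ha, ha0⟩ := exists_not_mem_of_not_le h.not_A_le
  obtain ⟨A₁, d, k⟩ := h.exists_hd ha ha0
  exact ⟨A₁, a, d, k⟩

theorem card_C0 (h : TL S V X V₀ w v x) : Nat.card (C₀ : Subgroup G) = 2 := by
  obtain ⟨A₁, a, d, k⟩ := h.exists_hd'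
  exact (h.card_two k).1

theorem card_V0 (h : TL S V X V₀ w v x) : Nat.card V₀ = 8 := by
  obtain ⟨A₁, a, d, k⟩ := h.exists_hd'
  rw [(h.card_four k).2, h.card_C0]

theorem C0_eq (h : TL S V X V₀ w v x) : C₀ = zpowers w :=
  (eq_of_le_of_card_ge (zpowers_le_of_mem h.w_mem)
    (by rw [h.card_C0, card_zpowers_of_sq h.w1 (by rw [pow_two, h.sq h.hw])])).symm

theorem comm_eq_cent (h : TL S V X V₀ w v x) {a : G} (ha : a ∈ A) (ha0 : a ∉ C₀) :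
    ⁅V, zpowers a⁆ = V ⊓ 𝐂(zpowers a) ∧ Nat.card (V ⊓ 𝐂(zpowers a) : Subgroup G) = 4 := by
  obtain ⟨A₁, d, k⟩ := h.exists_hd ha ha0
  have h1 : ⁅V, zpowers d⁆ = V := le_antisymm (h.N_le k) (by
    have := h.le_sup_N k
    rwa [(h.card_two k).2, bot_sup_eq] at this)
  have h2 := (h.freeN k).2.1
  rw [h1] at h2
  exact ⟨h2, h2 ▸ (h.card_four k).1⟩

end TL

end H25.A2
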