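import Mathlib
import Cfsg.Agent.Lib.NGrp.Tits

/-! The Tits case: see `H10.Tits.main` in `Lib/NGrp/Tits`. -/
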